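import Mathlib

/-!
# The Cauchy–Binet formula
-/

set_option autoImplicit false
universe u

namespace Groth.Agent.CauchyBinetLib

open Matrix

/-- The Cauchy–Binet formula. -/
theorem det_mul_eq_sum {R : Type u} [CommRing R] {e r : ℕ} (A : Matrix (Fin e) (Fin r) R)
    (B : Matrix (Fin r) (Fin e) R) :
    (A * B).det = ∑ s : {s : Finset (Fin r) // s.card = e},
      (A.submatrix id (s.1.orderEmbOfFin s.2)).det * (B.submatrix (s.1.orderEmbOfFin s.2) id).det := by
  classical
  have h1 : (A * B).det = ∑ f : Fin e → Fin r, (∏ j, B (f j) j) * (A.submatrix id f).det := by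
    rw [← Matrix.det_transpose]
    have hrows : (A * B)ᵀ = Matrix.of (fun j => ∑ k, B k j • fun i => A i k) := by
      ext j i
      simp [Matrix.mul_apply, mul_comm]
    rw [hrows]
    show (Matrix.detRowAlternating (n := Fin e) (R := R)).toMultilinearMap
      (fun j => ∑ k, B k j • fun i => A i k) = _
    rw [MultilinearMap.map_sum]
    refine Finset.sum_congr rfl fun f _ => ?_
    refine ((Matrix.detRowAlternating (n := Fin e) (R := R)).toMultilinearMap.map_smul_univ
      (fun j => B (f j) j) (fun j i => A i (f j))).trans ?_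
    rw [smul_eq_mul]
    congr 1
    show Matrix.det (Matrix.of fun j i => A i (f j)) = _
    rw [← Matrix.det_transpose]
    rfl
  let ψ : {s : Finset (Fin r) // s.card = e} × Equiv.Perm (Fin e) → (Fin e → Fin r) :=
    fun x j => x.1.1.orderEmbOfFin x.1.2 (x.2 j)
  have hψ : Function.Injective ψ := by
    rintro ⟨⟨s, hs⟩, σ⟩ ⟨⟨t, ht⟩, τ⟩ h
    have himg : ∀ (s : Finset (Fin r)) (hs : s.card = e) (σ : Equiv.Perm (Fin e)),
        Set.range (ψ (⟨s, hs⟩, σ)) = (s : Set (Fin r)) := fun s hs σ => by
      rw [← Finset.range_orderEmbOfFin s hs, ← EquivLike.range_comp (s.orderEmbOfFin hs) σ]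
      rfl
    have hst : s = t := Finset.coe_injective (by rw [← himg s hs σ, ← himg t ht τ, h])
    subst hst
    have : σ = τ := Equiv.ext fun j => (s.orderEmbOfFin hs).injective (congrFun h j)
    rw [this]
  rw [h1, ← Fintype.sum_of_injective ψ hψ (fun x => (∏ j, B (ψ x j) j) * (A.submatrix id (ψ x)).det)
    (fun f => (∏ j, B (f j) j) * (A.submatrix id f).det) ?_ (fun _ => rfl), Fintype.sum_prod_type]
  · refine Finset.sum_congr rfl fun s _ => ?_
    let g := s.1.orderEmbOfFin s.2
    have hA : ∀ σ : Equiv.Perm (Fin e), (A.submatrix id (ψ (s, σ))).det =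
        (Equiv.Perm.sign σ : R) * (A.submatrix id g).det := fun σ => by
      rw [← Matrix.det_permute' σ (A.submatrix id g)]
      rfl
    rw [Matrix.det_apply' (B.submatrix g id), Finset.mul_sum]
    refine Finset.sum_congr rfl fun σ _ => ?_
    rw [hA]
    show (∏ j, B (g (σ j)) j) * _ = _ * (_ * ∏ j, B (g (σ j)) j)
    ring
  · intro f hf
    have hnot : ¬ Function.Injective f := by
      intro hinj
      refine hf ?_
      let s := Finset.univ.image f
      have hs : s.card = e := by simp [s, Finset.card_image_of_injective _ hinj]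
      have hmem : ∀ j, f j ∈ s := fun j => Finset.mem_image_of_mem f (Finset.mem_univ j)
      let σ : Fin e → Fin e := fun j => (s.orderIsoOfFin hs).symm ⟨f j, hmem j⟩
      have hσ : Function.Bijective σ := (Finite.injective_iff_bijective).1 fun a b hab =>
        hinj (congrArg Subtype.val ((s.orderIsoOfFin hs).symm.injective hab))
      refine ⟨(⟨s, hs⟩, Equiv.ofBijective σ hσ), funext fun j => ?_⟩
      show s.orderEmbOfFin hs (σ j) = f j
      rw [← Finset.coe_orderIsoOfFin_apply]
      simp [σ]
    obtain ⟨a, b, hab, hne⟩ := Function.not_injective_iff.1 hnot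
    rw [Matrix.det_zero_of_column_eq hne (fun i => by simp [hab]), mul_zero]

end Groth.Agent.CauchyBinetLib
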